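import Mathlib.AlgebraicGeometry.Gluing
import Mathlib.AlgebraicGeometry.Morphisms.OpenImmersion
import Mathlib.AlgebraicGeometry.Morphisms.Basic

/-!
# Gluing along a cover by two opens
-/

set_option autoImplicit false

universe u

open CategoryTheory CategoryTheory.Limits AlgebraicGeometry

set_option backward.isDefEq.respectTransparency false
set_option backward.isDefEq.respectTransparency.types false

noncomputable section

namespace Groth.Agent.RZUnion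

variable {X Y : Scheme.{u}} (W₁ W₂ : X.Opens) (hW : ∀ x, x ∈ W₁ ∨ x ∈ W₂)

/-- The cover by two opens. -/
def twoCover : X.OpenCover := X.openCoverOfIsOpenCover (fun b : ULift.{u} Bool => cond b.down W₁ W₂)
  (top_le_iff.1 fun x _ => TopologicalSpace.Opens.mem_iSup.2 ((hW x).elim (fun h => ⟨⟨true⟩, h⟩) fun h => ⟨⟨false⟩, h⟩))

include hW

theorem hom_ext_two (f g : X ⟶ Y) (h₁ : W₁.ι ≫ f = W₁.ι ≫ g) (h₂ : W₂.ι ≫ f = W₂.ι ≫ g) : f = g :=
  (twoCover W₁ W₂ hW).hom_ext _ _ (by rintro ⟨_ | _⟩; exacts [h₂, h₁])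

theorem exists_glue_two (s₁ : W₁.toScheme ⟶ Y) (s₂ : W₂.toScheme ⟶ Y)
    (hs : ∀ {Z : Scheme.{u}} (z₁ : Z ⟶ W₁.toScheme) (z₂ : Z ⟶ W₂.toScheme),
      z₁ ≫ W₁.ι = z₂ ≫ W₂.ι → z₁ ≫ s₁ = z₂ ≫ s₂) :
    ∃ F : X ⟶ Y, W₁.ι ≫ F = s₁ ∧ W₂.ι ≫ F = s₂ := by
  refine ⟨(twoCover W₁ W₂ hW).glueMorphisms (fun b => match b with | ⟨true⟩ => s₁ | ⟨false⟩ => s₂) ?_,
    (twoCover W₁ W₂ hW).ι_glueMorphisms _ _ ⟨true⟩, (twoCover W₁ W₂ hW).ι_glueMorphisms _ _ ⟨false⟩⟩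
  rintro ⟨_ | _⟩ ⟨_ | _⟩
  · exact congrArg (· ≫ s₂) ((cancel_mono W₂.ι).1 (pullback.condition (f := W₂.ι) (g := W₂.ι)))
  · exact (hs _ _ (pullback.condition (f := W₂.ι) (g := W₁.ι)).symm).symm
  · exact hs _ _ (pullback.condition (f := W₁.ι) (g := W₂.ι))
  · exact congrArg (· ≫ s₁) ((cancel_mono W₁.ι).1 (pullback.condition (f := W₁.ι) (g := W₁.ι)))

theorem isOpenImmersion_two (j : X ⟶ Y) [IsOpenImmersion (W₁.ι ≫ j)] [IsOpenImmersion (W₂.ι ≫ j)]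
    (h : ∀ x y, x ∈ W₁ → y ∈ W₂ → j x = j y → x ∈ W₂) : IsOpenImmersion j := by
  have inj₁ : ∀ x y, x ∈ W₁ → y ∈ W₁ → j x = j y → x = y := fun x y hx hy e =>
    congrArg Subtype.val ((W₁.ι ≫ j).isOpenEmbedding.injective (a₁ := ⟨x, hx⟩) (a₂ := ⟨y, hy⟩)
      (((Scheme.Hom.comp_apply _ _ _).trans e).trans (Scheme.Hom.comp_apply _ _ _).symm))
  have inj₂ : ∀ x y, x ∈ W₂ → y ∈ W₂ → j x = j y → x = y := fun x y hx hy e =>
    congrArg Subtype.val ((W₂.ι ≫ j).isOpenEmbedding.injective (a₁ := ⟨x, hx⟩) (a₂ := ⟨y, hy⟩)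
      (((Scheme.Hom.comp_apply _ _ _).trans e).trans (Scheme.Hom.comp_apply _ _ _).symm))
  refine IsOpenImmersion.of_openCover_source j (twoCover W₁ W₂ hW) (fun x y e => ?_) ?_
  · rcases hW x with hx | hx <;> rcases hW y with hy | hy
    · exact inj₁ x y hx hy e
    · exact inj₂ x y (h x y hx hy e) hy e
    · exact inj₂ x y hx (h y x hy hx e.symm) e
    · exact inj₂ x y hx hy e
  · rintro ⟨_ | _⟩
    · exact (inferInstance : IsOpenImmersion (W₂.ι ≫ j))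
    · exact (inferInstance : IsOpenImmersion (W₁.ι ≫ j))

end Groth.Agent.RZUnion
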