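import Groth.Agent.RZUnion.Common
import Groth.Agent.BlowSep.Disjoint

/-!
# Separating the closures of the two complements
-/

set_option autoImplicit false
set_option linter.style.haveILetI false
set_option backward.isDefEq.respectTransparency false
set_option backward.isDefEq.respectTransparency.types false

universe u

open CategoryTheory CategoryTheory.Limits AlgebraicGeometry TopologicalSpace Topology

noncomputable section

namespace Groth.Agent.RZUnion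

open Groth.Agent.RZExt

theorem coe_homOfLE_apply {X : Scheme.{u}} {V W : X.Opens} (h : V ≤ W) (a : V.toScheme) :
    ((X.homOfLE h a : W.toScheme).1 : X) = a.1 := by
  have h1 := congrArg (fun k : V.toScheme ⟶ X => k a) (X.homOfLE_ι h)
  exact (Scheme.Hom.comp_apply _ _ a).symm.trans h1

theorem isFiniteType_of_isLocallyNoetherian {X : Scheme.{u}} [IsLocallyNoetherian X] (I : X.IdealSheafData) :
    BlowUp.IsFiniteTypeIdeal I := fun V =>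
  haveI := IsLocallyNoetherian.component_noetherian V
  Ideal.fg_of_isNoetherianRing _

variable {U S : Scheme.{u}} {g : U ⟶ S}

/-- Two compactified opens covering the scheme. -/
structure Data (g : U ⟶ S) where
  U₁ : U.Opens
  U₂ : U.Opens
  A : U.Opens
  cov : U₁ ⊔ U₂ = ⊤
  le₁ : A ≤ U₁
  le₂ : A ≤ U₂
  inter : ∀ x ∈ U₁, x ∈ U₂ → x ∈ A
  Y₁ : Scheme.{u}
  Y₂ : Scheme.{u}
  p₁ : Y₁ ⟶ S
  p₂ : Y₂ ⟶ S
  proper₁ : IsProper p₁
  proper₂ : IsProper p₂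
  j₁ : U₁.toScheme ⟶ Y₁
  j₂ : U₂.toScheme ⟶ Y₂
  open₁ : IsOpenImmersion j₁
  open₂ : IsOpenImmersion j₂
  over₁ : j₁ ≫ p₁ = U₁.ι ≫ g
  over₂ : j₂ ≫ p₂ = U₂.ι ≫ g
  dense₁ : Dense (Set.range (U.homOfLE le₁ ≫ j₁))
  dense₂ : Dense (Set.range (U.homOfLE le₂ ≫ j₂))

namespace Data

variable (D : Data g)

attribute [instance] Data.proper₁ Data.proper₂ Data.open₁ Data.open₂

/-- Exchange the two sides. -/
def symm : Data g where
  U₁ := D.U₂
  U₂ := D.U₁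
  A := D.A
  cov := (sup_comm _ _).trans D.cov
  le₁ := D.le₂
  le₂ := D.le₁
  inter x h h' := D.inter x h' h
  Y₁ := D.Y₂
  Y₂ := D.Y₁
  p₁ := D.p₂
  p₂ := D.p₁
  proper₁ := D.proper₂
  proper₂ := D.proper₁
  j₁ := D.j₂
  j₂ := D.j₁
  open₁ := D.open₂
  open₂ := D.open₁
  over₁ := D.over₂
  over₂ := D.over₁
  dense₁ := D.dense₂
  dense₂ := D.dense₁

/-- The first embedding of the intersection. -/
abbrev k₁ : D.A.toScheme ⟶ D.Y₁ := U.homOfLE D.le₁ ≫ D.j₁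

/-- The second embedding of the intersection. -/
abbrev k₂ : D.A.toScheme ⟶ D.Y₂ := U.homOfLE D.le₂ ≫ D.j₂

/-- The points of the first open outside the second. -/
def Z₁ : Set D.Y₁ := D.j₁ '' {u | u.1 ∉ D.U₂}

/-- The points of the second open outside the first. -/
def Z₂ : Set D.Y₂ := D.j₂ '' {u | u.1 ∉ D.U₁}

theorem disjoint_Z₁ : Disjoint D.Z₁ (Set.range D.k₁) := by
  rw [Set.disjoint_left]
  rintro _ ⟨u, hu, rfl⟩ ⟨a, ha⟩
  rw [Scheme.Hom.comp_apply] at ha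
  have h1 := D.j₁.isOpenEmbedding.injective ha
  refine hu ?_
  rw [← h1]
  show (U.homOfLE D.le₁ a).1 ∈ D.U₂
  rw [coe_homOfLE_apply]
  exact D.le₂ a.2

theorem range_j₁_subset : Set.range D.j₁ ⊆ Set.range D.k₁ ∪ D.Z₁ := by
  rintro _ ⟨u, rfl⟩
  by_cases hu : u.1 ∈ D.U₂
  · exact Or.inl ⟨⟨u.1, D.inter _ u.2 hu⟩, by
      rw [Scheme.Hom.comp_apply]
      exact congrArg _ (Subtype.ext (coe_homOfLE_apply _ _))⟩
  · exact Or.inr ⟨u, hu, rfl⟩

theorem closure_Z₁_inter : closure D.Z₁ ∩ Set.range D.j₁ ⊆ D.Z₁ := by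
  rintro _ ⟨hx, u, rfl⟩
  have hT : IsClosed {u : D.U₁.toScheme | u.1 ∉ D.U₂} :=
    (D.U₂.2.preimage continuous_subtype_val).isClosed_compl
  have h1 : u ∈ closure {u : D.U₁.toScheme | u.1 ∉ D.U₂} := by
    rw [D.j₁.isOpenEmbedding.isEmbedding.closure_eq_preimage_closure_image]
    exact hx
  rw [hT.closure_eq] at h1
  exact ⟨u, h1, rfl⟩

/-- Common blow-ups for the data. -/
abbrev Model := Common D.p₁ D.p₂ D.k₁ D.k₂

theorem disjoint_preimage [IsSeparated g] (C : D.Model) :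
    Disjoint (closure (C.e₂ ⁻¹' D.Z₂)) (C.e₁ ⁻¹' Set.range D.j₁) := by
  refine Set.disjoint_left.2 fun x hx hx₁ => ?_
  obtain ⟨y, hy₁, hy₂⟩ := mem_closure_iff.1 hx _ (D.j₁.isOpenEmbedding.isOpen_range.preimage C.e₁.continuous) hx₁
  haveI := C.isOpenImmersion_v
  let O : C.X.Opens := C.e₁ ⁻¹ᵁ D.j₁.opensRange ⊓ C.e₂ ⁻¹ᵁ D.j₂.opensRange
  have h₁ : Set.range (O.ι ≫ C.e₁) ⊆ Set.range D.j₁ := by
    rintro _ ⟨z, rfl⟩
    exact z.2.1
  have h₂ : Set.range (O.ι ≫ C.e₂) ⊆ Set.range D.j₂ := by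
    rintro _ ⟨z, rfl⟩
    exact z.2.2
  let l₁ := IsOpenImmersion.lift D.j₁ (O.ι ≫ C.e₁) h₁
  let l₂ := IsOpenImmersion.lift D.j₂ (O.ι ≫ C.e₂) h₂
  have hl₁ : l₁ ≫ D.j₁ = O.ι ≫ C.e₁ := IsOpenImmersion.lift_fac _ _ _
  have hl₂ : l₂ ≫ D.j₂ = O.ι ≫ C.e₂ := IsOpenImmersion.lift_fac _ _ _
  have heq : l₁ ≫ D.U₁.ι = l₂ ≫ D.U₂.ι := by
    refine C.hom_ext (f := g) O ?_ fun W r t ht => ?_
    · rw [Category.assoc, Category.assoc, ← D.over₁, ← D.over₂, reassoc_of% hl₁, reassoc_of% hl₂, C.over']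
    · have e₁ : r ≫ l₁ = t ≫ U.homOfLE D.le₁ := by
        rw [← cancel_mono D.j₁, Category.assoc, hl₁, ← reassoc_of% ht, C.v₁, Category.assoc]
      have e₂ : r ≫ l₂ = t ≫ U.homOfLE D.le₂ := by
        rw [← cancel_mono D.j₂, Category.assoc, hl₂, ← reassoc_of% ht, C.v₂, Category.assoc]
      rw [reassoc_of% e₁, reassoc_of% e₂, Scheme.homOfLE_ι, Scheme.homOfLE_ι]
  obtain ⟨u, hu, hue⟩ := hy₂
  let z : O.toScheme := ⟨y, hy₁, ⟨u, hue⟩⟩
  have h3 : l₂ z = u := D.j₂.isOpenEmbedding.injective (by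
    rw [← Scheme.Hom.comp_apply, hl₂, hue]
    rfl)
  have h4 := congrArg (fun k : O.toScheme ⟶ U => k z) heq
  simp only [Scheme.Hom.comp_apply, h3] at h4
  refine hu ?_
  have h5 : (D.U₁.ι (l₁ z) : U) ∈ D.U₁ := (l₁ z).2
  rw [h4] at h5
  exact h5

theorem compactSpace₁ [IsNoetherian S] : CompactSpace D.Y₁ := QuasiCompact.compactSpace_of_compactSpace D.p₁

theorem quasiSeparatedSpace₁ [IsNoetherian S] : QuasiSeparatedSpace D.Y₁ := quasiSeparatedSpace_of_quasiSeparated D.p₁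

theorem isNoetherian₁ [IsNoetherian S] : IsNoetherian D.Y₁ :=
  haveI := D.compactSpace₁
  haveI := LocallyOfFiniteType.isLocallyNoetherian D.p₁
  {}

theorem isNoetherian_model [IsNoetherian S] (C : D.Model) : IsNoetherian C.X :=
  haveI := D.isNoetherian₁
  haveI := C.isProper₁
  haveI := LocallyOfFiniteType.isLocallyNoetherian C.e₁
  haveI := C.compactSpace
  {}

theorem preimage_inter_range (C : D.Model) : Disjoint (closure (C.e₁ ⁻¹' D.Z₁)) (Set.range C.v) := by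
  refine Set.disjoint_left.2 fun x hx hxv => ?_
  obtain ⟨y, hyv, hy⟩ := mem_closure_iff.1 hx _ C.isOpen_range hxv
  rw [C.range₁] at hyv
  exact Set.disjoint_left.1 D.disjoint_Z₁ hy hyv

/-- A model in which the closures of the two complements are disjoint. -/
theorem exists_disjoint [IsNoetherian S] [IsSeparated g] [CompactSpace D.A.toScheme] :
    ∃ C : D.Model, Disjoint (closure (C.e₁ ⁻¹' D.Z₁)) (closure (C.e₂ ⁻¹' D.Z₂)) := by
  haveI := D.compactSpace₁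
  haveI := D.quasiSeparatedSpace₁
  haveI : CompactSpace D.Y₂ := D.symm.compactSpace₁
  haveI : QuasiSeparatedSpace D.Y₂ := D.symm.quasiSeparatedSpace₁
  obtain ⟨C⟩ := exists_common D.p₁ D.p₂ D.k₁ D.k₂ (by
    rw [Category.assoc, Category.assoc, D.over₁, D.over₂, Scheme.homOfLE_ι_assoc, Scheme.homOfLE_ι_assoc])
  haveI := D.isNoetherian_model C
  let A₁ := Scheme.IdealSheafData.vanishingIdeal (⟨closure (C.e₁ ⁻¹' D.Z₁), isClosed_closure⟩ : Closeds C.X)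
  let A₂ := Scheme.IdealSheafData.vanishingIdeal (⟨closure (C.e₂ ⁻¹' D.Z₂), isClosed_closure⟩ : Closeds C.X)
  have hA₁ : (A₁.support : Set C.X) = closure (C.e₁ ⁻¹' D.Z₁) := Scheme.IdealSheafData.coe_support_vanishingIdeal _
  have hA₂ : (A₂.support : Set C.X) = closure (C.e₂ ⁻¹' D.Z₂) := Scheme.IdealSheafData.coe_support_vanishingIdeal _
  have hs₁ : ((A₁ ⊔ A₂).support : Set C.X) ⊆ closure (C.e₁ ⁻¹' D.Z₁) := fun x hx =>
    hA₁.subset (Scheme.IdealSheafData.support_antitone (le_sup_left : A₁ ≤ A₁ ⊔ A₂) hx)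
  have hs₂ : ((A₁ ⊔ A₂).support : Set C.X) ⊆ closure (C.e₂ ⁻¹' D.Z₂) := fun x hx =>
    hA₂.subset (Scheme.IdealSheafData.support_antitone (le_sup_right : A₂ ≤ A₁ ⊔ A₂) hx)
  obtain ⟨C', π, hπ₁, hπ₂, hπ⟩ := C.exists_blowUp (A₁ ⊔ A₂) (isFiniteType_of_isLocallyNoetherian _)
    ((D.preimage_inter_range C).mono_left hs₁)
  refine ⟨C', (BlowSep.disjoint_closure A₁ A₂ hπ.1).mono (closure_mono ?_) (closure_mono ?_)⟩
  · intro x hx
    have hx' : C.e₁ (π x) ∈ D.Z₁ := by rw [← Scheme.Hom.comp_apply, hπ₁]; exact hx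
    refine ⟨hA₁.ge (subset_closure hx'), fun h => Set.disjoint_left.1 (D.disjoint_preimage C) (hs₂ h) ?_⟩
    obtain ⟨u, -, hu⟩ := hx'
    exact ⟨u, hu⟩
  · intro x hx
    have hx' : C.e₂ (π x) ∈ D.Z₂ := by rw [← Scheme.Hom.comp_apply, hπ₂]; exact hx
    refine ⟨hA₂.ge (subset_closure hx'), fun h => Set.disjoint_left.1 (D.symm.disjoint_preimage C.symm) (hs₁ h) ?_⟩
    obtain ⟨u, -, hu⟩ := hx'
    exact ⟨u, hu⟩

/-- The centre whose blow-up pulls the closure of the complement off everything outside its closure upstairs. -/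
theorem exists_centre [IsNoetherian S] (C : D.Model) :
    ∃ E : D.Y₁.IdealSheafData, BlowUp.IsFiniteTypeIdeal E ∧ Disjoint (E.support : Set D.Y₁) (Set.range D.j₁) ∧
      ∀ {P Y' : Scheme.{u}} (f : P ⟶ C.X) (c : Y' ⟶ D.Y₁) (k : P ⟶ Y'), f ≫ C.e₁ = k ≫ c →
        BlowUp.IsEffCartierIdeal (E.comap c) → ∀ z ∈ closure (f ⁻¹' Set.range C.v),
          f z ∉ closure (C.e₁ ⁻¹' D.Z₁) → k z ∉ closure (c ⁻¹' D.Z₁) := by
  haveI := D.isNoetherian₁
  haveI := D.isNoetherian_model C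
  let P₀ := Scheme.IdealSheafData.vanishingIdeal (⟨closure D.Z₁, isClosed_closure⟩ : Closeds D.Y₁)
  let B := Scheme.IdealSheafData.vanishingIdeal
    (⟨(Set.range D.j₁)ᶜ, D.j₁.isOpenEmbedding.isOpen_range.isClosed_compl⟩ : Closeds D.Y₁)
  have hP : (P₀.support : Set D.Y₁) = closure D.Z₁ := Scheme.IdealSheafData.coe_support_vanishingIdeal _
  have hB : (B.support : Set D.Y₁) = (Set.range D.j₁)ᶜ := Scheme.IdealSheafData.coe_support_vanishingIdeal _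
  let W : C.X.Opens := ⟨(closure (C.e₁ ⁻¹' D.Z₁))ᶜ, isClosed_closure.isOpen_compl⟩
  obtain ⟨n, hn⟩ := BlowSep.exists_pow_le (q := C.e₁) P₀ B (isFiniteType_of_isLocallyNoetherian _)
    (W := W) (TopologicalSpace.NoetherianSpace.isCompact _) (fun w hw hwP => by
      by_contra hwB
      replace hwB : C.e₁ w ∈ Set.range D.j₁ := not_not.1 fun h => hwB (hB.ge h)
      exact hw (subset_closure (D.closure_Z₁_inter ⟨hP.subset hwP, hwB⟩)))
  refine ⟨P₀ ⊔ B ^ (n + 1), isFiniteType_of_isLocallyNoetherian _, ?_, fun {P Y'} f c k hfk hcart z hz hzW hkz => ?_⟩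
  · refine Set.disjoint_left.2 fun x hx hx₁ => ?_
    have h1 := Scheme.IdealSheafData.support_antitone (le_sup_right : B ^ (n + 1) ≤ P₀ ⊔ B ^ (n + 1)) hx
    rw [Scheme.IdealSheafData.support_pow_succ] at h1
    exact hB.subset h1 hx₁
  obtain ⟨V, O, e, hzO, hle⟩ := hn (f z) hzW
  refine BlowSep.separated hfk P₀ (P₀ ⊔ B ^ (n + 1)) (Set.range D.j₁) (fun x hx h => ?_) hcart le_sup_left
    (f ⁻¹' Set.range C.v) (fun u hu => ?_) z hz ?_ V O e hzO ?_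
  · have h1 := Scheme.IdealSheafData.support_antitone (le_sup_right : B ^ (n + 1) ≤ P₀ ⊔ B ^ (n + 1)) h
    rw [Scheme.IdealSheafData.support_pow_succ] at h1
    exact hB.subset h1 hx
  · obtain ⟨a, ha⟩ : C.e₁ (f u) ∈ Set.range D.k₁ := C.range₁.subset hu
    exact ⟨U.homOfLE D.le₁ a, by rw [← ha, Scheme.Hom.comp_apply]⟩
  · refine closure_mono (fun y hy => ?_) hkz
    obtain ⟨u, hu, hue⟩ := hy
    exact ⟨hP.ge (subset_closure ⟨u, hu, hue⟩), ⟨u, hue⟩⟩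
  · rw [Scheme.IdealSheafData.ideal_sup, Pi.sup_apply, Ideal.map_sup]
    refine sup_le le_rfl ((Ideal.map_mono ?_).trans hle)
    rw [Scheme.IdealSheafData.ideal_pow, Scheme.IdealSheafData.ideal_pow, Pi.pow_apply, Pi.pow_apply]
    exact Ideal.pow_le_pow_right (Nat.le_succ n)

end Data

/-- The data after blowing up away from the two opens. -/
structure Stage {g : U ⟶ S} (D : Data g) where
  Y₁' : Scheme.{u}
  Y₂' : Scheme.{u}
  c₁ : Y₁' ⟶ D.Y₁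
  c₂ : Y₂' ⟶ D.Y₂
  E₁ : D.Y₁.IdealSheafData
  E₂ : D.Y₂.IdealSheafData
  hc₁ : BlowUp.IsBlowUp c₁ E₁
  hc₂ : BlowUp.IsBlowUp c₂ E₂
  ft₁ : BlowUp.IsFiniteTypeIdeal E₁
  ft₂ : BlowUp.IsFiniteTypeIdeal E₂
  adm₁ : Disjoint (E₁.support : Set D.Y₁) (Set.range D.j₁)
  adm₂ : Disjoint (E₂.support : Set D.Y₂) (Set.range D.j₂)
  C : D.Model
  e₁ : C.X ⟶ Y₁'
  e₂ : C.X ⟶ Y₂'
  fac₁ : e₁ ≫ c₁ = C.e₁
  fac₂ : e₂ ≫ c₂ = C.e₂
  blow₁ : BlowUp.IsBlowUp e₁ (C.K₁.comap c₁)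
  blow₂ : BlowUp.IsBlowUp e₂ (C.K₂.comap c₂)
  disj : Disjoint (e₁ ⁻¹' closure (c₁ ⁻¹' D.Z₁)) (e₂ ⁻¹' closure (c₂ ⁻¹' D.Z₂))
  avoid₁ : Disjoint (e₂ ⁻¹' closure (c₂ ⁻¹' D.Z₂)) (C.e₁ ⁻¹' Set.range D.j₁)
  avoid₂ : Disjoint (e₁ ⁻¹' closure (c₁ ⁻¹' D.Z₁)) (C.e₂ ⁻¹' Set.range D.j₂)

/-- Such a stage exists. -/
theorem exists_stage [IsNoetherian S] [IsSeparated g] (D : Data g) [CompactSpace D.A.toScheme] :
    Nonempty (Stage D) := by
  haveI := D.compactSpace₁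
  haveI := D.quasiSeparatedSpace₁
  haveI : CompactSpace D.Y₂ := D.symm.compactSpace₁
  haveI : QuasiSeparatedSpace D.Y₂ := D.symm.quasiSeparatedSpace₁
  obtain ⟨C, hC⟩ := D.exists_disjoint
  obtain ⟨E₁, hE₁f, hE₁d, hE₁⟩ := D.exists_centre C
  obtain ⟨E₂, hE₂f, hE₂d, hE₂⟩ := D.symm.exists_centre C.symm
  have havoid : Disjoint ((E₁.comap C.e₁ * E₂.comap C.e₂).support : Set C.X) (Set.range C.v) := by
    rw [Scheme.IdealSheafData.support_mul, Closeds.coe_sup, Scheme.IdealSheafData.support_comap,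
      Scheme.IdealSheafData.support_comap]
    refine Set.disjoint_left.2 fun x hx hxv => ?_
    rcases hx with hx | hx
    · obtain ⟨a, ha⟩ := C.range₁.subset hxv
      exact Set.disjoint_left.1 hE₁d hx ⟨U.homOfLE D.le₁ a, by rw [← ha, Scheme.Hom.comp_apply]⟩
    · obtain ⟨a, ha⟩ := C.range₂.subset hxv
      exact Set.disjoint_left.1 hE₂d hx ⟨U.homOfLE D.le₂ a, (Scheme.Hom.comp_apply _ _ a).symm.trans ha⟩
  obtain ⟨C', π, hπ₁, hπ₂, hπ⟩ := C.exists_blowUp (E₁.comap C.e₁ * E₂.comap C.e₂) (fun V => by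
    rw [Scheme.IdealSheafData.ideal_mul, Pi.mul_apply]
    exact (isFiniteType_comap _ hE₁f V).mul (isFiniteType_comap _ hE₂f V)) havoid
  have hcart := hπ.1
  rw [BlowUpLib.comap_mul, ← Scheme.IdealSheafData.comap_comp, ← Scheme.IdealSheafData.comap_comp, hπ₁, hπ₂] at hcart
  obtain ⟨Y₁', c₁, hc₁⟩ := BlowUpExist.exists_isBlowUp D.Y₁ E₁
  obtain ⟨Y₂', c₂, hc₂⟩ := BlowUpExist.exists_isBlowUp D.Y₂ E₂
  obtain ⟨e₁, he₁, hb₁⟩ := exists_factor C'.blowUp₁ hc₁ (BlowUpLib.cartier_of_mul_left hcart)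
  obtain ⟨e₂, he₂, hb₂⟩ := exists_factor C'.blowUp₂ hc₂ (BlowUpLib.cartier_of_mul_right hcart)
  have hdense : ∀ x, x ∈ closure (π ⁻¹' Set.range C.v) := fun x => by
    refine closure_mono ?_ (C'.dense x)
    intro y hy
    show π y ∈ Set.range C.v
    rw [C.range₁, Set.mem_preimage, ← Scheme.Hom.comp_apply, hπ₁]
    rw [C'.range₁] at hy
    exact hy
  have k₁ : ∀ x, π x ∉ closure (C.e₁ ⁻¹' D.Z₁) → e₁ x ∉ closure (c₁ ⁻¹' D.Z₁) := fun x hx =>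
    hE₁ π c₁ e₁ (hπ₁.trans he₁.symm) hc₁.1 x (hdense x) hx
  have k₂ : ∀ x, π x ∉ closure (C.e₂ ⁻¹' D.Z₂) → e₂ x ∉ closure (c₂ ⁻¹' D.Z₂) := fun x hx =>
    hE₂ π c₂ e₂ (hπ₂.trans he₂.symm) hc₂.1 x (hdense x) hx
  refine ⟨⟨Y₁', Y₂', c₁, c₂, E₁, E₂, hc₁, hc₂, hE₁f, hE₂f, hE₁d, hE₂d, C', e₁, e₂, he₁, he₂, hb₁, hb₂, ?_, ?_, ?_⟩⟩
  · refine Set.disjoint_left.2 fun x hx₁ hx₂ => ?_
    exact Set.disjoint_left.1 hC (not_not.1 fun h => k₁ x h hx₁) (not_not.1 fun h => k₂ x h hx₂)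
  · refine Set.disjoint_left.2 fun x hx₂ hx₁ => ?_
    refine Set.disjoint_left.1 (D.disjoint_preimage C) (not_not.1 fun h => k₂ x h hx₂) ?_
    rw [Set.mem_preimage]
    rw [← Scheme.Hom.comp_apply, hπ₁]
    exact hx₁
  · refine Set.disjoint_left.2 fun x hx₁ hx₂ => ?_
    refine Set.disjoint_left.1 (D.symm.disjoint_preimage C.symm) (not_not.1 fun h => k₁ x h hx₁) ?_
    change C.e₂ (π x) ∈ Set.range D.j₂
    rw [← Scheme.Hom.comp_apply, hπ₂]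
    exact hx₂

namespace Stage

variable {D : Data g} (T : Stage D)

/-- Exchange the two sides. -/
def symm : Stage D.symm where
  Y₁' := T.Y₂'
  Y₂' := T.Y₁'
  c₁ := T.c₂
  c₂ := T.c₁
  E₁ := T.E₂
  E₂ := T.E₁
  hc₁ := T.hc₂
  hc₂ := T.hc₁
  ft₁ := T.ft₂
  ft₂ := T.ft₁
  adm₁ := T.adm₂
  adm₂ := T.adm₁
  C := T.C.symm
  e₁ := T.e₂
  e₂ := T.e₁
  fac₁ := T.fac₂
  fac₂ := T.fac₁
  blow₁ := T.blow₂
  blow₂ := T.blow₁
  disj := T.disj.symm
  avoid₁ := T.avoid₂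
  avoid₂ := T.avoid₁

end Stage

end Groth.Agent.RZUnion
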