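import Groth.Agent.RZExt.Many

/-!
# Common blow-ups of two proper schemes with a common open
-/

set_option autoImplicit false
set_option linter.style.haveILetI false
set_option backward.isDefEq.respectTransparency false
set_option backward.isDefEq.respectTransparency.types false

universe u

open CategoryTheory CategoryTheory.Limits AlgebraicGeometry TopologicalSpace Topology

noncomputable section

namespace Groth.Agent.RZUnion

open Groth.Agent.RZExt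

variable {S A Y₁ Y₂ : Scheme.{u}}

/-- A scheme which is a blow-up of both, in centres with support the complement of the common open. -/
structure Common (p₁ : Y₁ ⟶ S) (p₂ : Y₂ ⟶ S) (k₁ : A ⟶ Y₁) (k₂ : A ⟶ Y₂) where
  X : Scheme.{u}
  e₁ : X ⟶ Y₁
  e₂ : X ⟶ Y₂
  over' : e₁ ≫ p₁ = e₂ ≫ p₂
  v : A ⟶ X
  v₁ : v ≫ e₁ = k₁
  v₂ : v ≫ e₂ = k₂
  range₁ : Set.range v = e₁ ⁻¹' Set.range k₁
  range₂ : Set.range v = e₂ ⁻¹' Set.range k₂
  K₁ : Y₁.IdealSheafData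
  K₂ : Y₂.IdealSheafData
  blowUp₁ : BlowUp.IsBlowUp e₁ K₁
  blowUp₂ : BlowUp.IsBlowUp e₂ K₂
  ft₁ : BlowUp.IsFiniteTypeIdeal K₁
  ft₂ : BlowUp.IsFiniteTypeIdeal K₂
  supp₁ : (K₁.support : Set Y₁) = (Set.range k₁)ᶜ
  supp₂ : (K₂.support : Set Y₂) = (Set.range k₂)ᶜ

namespace Common

variable {p₁ : Y₁ ⟶ S} {p₂ : Y₂ ⟶ S} {k₁ : A ⟶ Y₁} {k₂ : A ⟶ Y₂} (C : Common p₁ p₂ k₁ k₂)

/-- Exchange the two sides. -/
def symm : Common p₂ p₁ k₂ k₁ where
  X := C.X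
  e₁ := C.e₂
  e₂ := C.e₁
  over' := C.over'.symm
  v := C.v
  v₁ := C.v₂
  v₂ := C.v₁
  range₁ := C.range₂
  range₂ := C.range₁
  K₁ := C.K₂
  K₂ := C.K₁
  blowUp₁ := C.blowUp₂
  blowUp₂ := C.blowUp₁
  ft₁ := C.ft₂
  ft₂ := C.ft₁
  supp₁ := C.supp₂
  supp₂ := C.supp₁

/-- The exceptional divisor. -/
theorem supp_comap : ((C.K₁.comap C.e₁).support : Set C.X) = (Set.range C.v)ᶜ := by
  rw [Scheme.IdealSheafData.support_comap, Closeds.coe_preimage, C.supp₁, Set.preimage_compl, C.range₁]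

theorem cartier : BlowUp.IsEffCartierIdeal (C.K₁.comap C.e₁) := C.blowUp₁.1

theorem dense : Dense (Set.range C.v) := by
  have h := dense_awayFrom C.cartier
  rwa [C.supp_comap, compl_compl] at h

theorem isOpen_range : IsOpen (Set.range C.v) := by
  have h := ((C.K₁.comap C.e₁).support.isClosed).isOpen_compl
  rwa [C.supp_comap, compl_compl] at h

theorem isProper₁ : IsProper C.e₁ := BlowUpExist.isProper_of_isFiniteType C.blowUp₁ C.ft₁

theorem isProper₂ : IsProper C.e₂ := BlowUpExist.isProper_of_isFiniteType C.blowUp₂ C.ft₂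

theorem compactSpace [CompactSpace Y₁] : CompactSpace C.X :=
  haveI := C.isProper₁
  QuasiCompact.compactSpace_of_compactSpace C.e₁

/-- Two maps to a separated scheme which agree on the common open agree. -/
theorem hom_ext {T R : Scheme.{u}} {f : T ⟶ R} [IsSeparated f] (O : C.X.Opens) {a b : O.toScheme ⟶ T}
    (hab : a ≫ f = b ≫ f)
    (h : ∀ (W : Scheme.{u}) (r : W ⟶ O.toScheme) (t : W ⟶ A), t ≫ C.v = r ≫ O.ι → r ≫ a = r ≫ b)
    [IsOpenImmersion C.v] : a = b := by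
  have hc := BlowUpLib.cartier_comap_flat C.cartier O.ι
  refine hom_ext_of_cartier (f := f) _ hc hab ?_
  set W := HTop.awayFrom ((C.K₁.comap C.e₁).comap O.ι)
  have hr : Set.range (W.ι ≫ O.ι) ⊆ Set.range C.v := by
    rintro _ ⟨z, rfl⟩
    have hz : W.ι z ∉ ((C.K₁.comap C.e₁).comap O.ι).support := z.2
    rw [← SetLike.mem_coe, Scheme.IdealSheafData.support_comap, Closeds.coe_preimage, C.supp_comap] at hz
    exact not_not.1 hz
  exact h _ W.ι (IsOpenImmersion.lift C.v (W.ι ≫ O.ι) hr) (IsOpenImmersion.lift_fac _ _ _)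

theorem isOpenImmersion_v [IsOpenImmersion k₁] : IsOpenImmersion C.v :=
  isOpenImmersion_of_lift C.blowUp₁ k₁ (by rw [C.supp₁]; exact disjoint_compl_left) C.v C.v₁

/-- Blowing up further, away from the common open. -/
theorem exists_blowUp [CompactSpace Y₁] [QuasiSeparatedSpace Y₁] [CompactSpace Y₂] [QuasiSeparatedSpace Y₂]
    (L : C.X.IdealSheafData) (hL : BlowUp.IsFiniteTypeIdeal L) (hd : Disjoint (L.support : Set C.X) (Set.range C.v)) :
    ∃ (C' : Common p₁ p₂ k₁ k₂) (π : C'.X ⟶ C.X), π ≫ C.e₁ = C'.e₁ ∧ π ≫ C.e₂ = C'.e₂ ∧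
      BlowUp.IsBlowUp π L := by
  obtain ⟨X', π, hπ⟩ := BlowUpExist.exists_isBlowUp C.X L
  obtain ⟨M₁, hM₁, hs₁, hb₁⟩ := exists_isBlowUp_comp C.blowUp₁ C.ft₁ hL hπ
  obtain ⟨M₂, hM₂, hs₂, hb₂⟩ := exists_isBlowUp_comp C.blowUp₂ C.ft₂ hL hπ
  have e₁ : (M₁.support : Set Y₁) = (Set.range k₁)ᶜ := by
    rw [hs₁, C.supp₁, Set.union_eq_left]
    rintro _ ⟨y, hy, rfl⟩ hy'
    exact Set.disjoint_left.1 hd hy (C.range₁.ge hy')
  have e₂ : (M₂.support : Set Y₂) = (Set.range k₂)ᶜ := by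
    rw [hs₂, C.supp₂, Set.union_eq_left]
    rintro _ ⟨y, hy, rfl⟩ hy'
    exact Set.disjoint_left.1 hd hy (C.range₂.ge hy')
  obtain ⟨v, hv, -⟩ := hπ.2 A C.v (BlowUpLib.comap_restrict_eq_top _ _
    fun a h => Set.disjoint_left.1 hd h ⟨a, rfl⟩)
  have hrange : Set.range v = π ⁻¹' Set.range C.v := by
    ext x
    constructor
    · rintro ⟨a, rfl⟩
      exact ⟨a, by rw [← Scheme.Hom.comp_apply, hv]⟩
    · rintro ⟨a, ha⟩
      refine ⟨a, eq_of_isBlowUp hπ (fun h => ?_) (by rw [← Scheme.Hom.comp_apply, hv, ha])⟩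
      exact Set.disjoint_left.1 hd h ⟨a, by rw [← Scheme.Hom.comp_apply, hv]⟩
  exact ⟨⟨X', π ≫ C.e₁, π ≫ C.e₂, by rw [Category.assoc, Category.assoc, C.over'], v,
    by rw [reassoc_of% hv, C.v₁], by rw [reassoc_of% hv, C.v₂],
    by rw [hrange, C.range₁]; rfl, by rw [hrange, C.range₂]; rfl,
    M₁, M₂, hb₁, hb₂, hM₁, hM₂, e₁, e₂⟩, π, rfl, rfl, hπ⟩

end Common

/-- A blow-up through which a blow-up factors. -/
theorem exists_factor {Y Y' X : Scheme.{u}} {e : X ⟶ Y} {M : Y.IdealSheafData} (he : BlowUp.IsBlowUp e M)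
    {c : Y' ⟶ Y} {L : Y.IdealSheafData} (hc : BlowUp.IsBlowUp c L) (hL : BlowUp.IsEffCartierIdeal (L.comap e)) :
    ∃ e' : X ⟶ Y', e' ≫ c = e ∧ BlowUp.IsBlowUp e' (M.comap c) := by
  obtain ⟨e', he', -⟩ := hc.2 X e hL
  refine ⟨e', he', ?_, fun W g hg => ?_⟩
  · rw [← Scheme.IdealSheafData.comap_comp, he']
    exact he.1
  obtain ⟨X'', d, hd⟩ := BlowUpExist.exists_isBlowUp Y' (M.comap c)
  have hdc := BlowUpLib.isBlowUp_comp hc hd
  obtain ⟨σ, hσ, -⟩ := hdc.2 X e (by rw [BlowUpLib.comap_mul]; exact BlowUpLib.cartier_mul hL he.1)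
  obtain ⟨τ, hτ, -⟩ := he.2 X'' (d ≫ c) (by rw [Scheme.IdealSheafData.comap_comp]; exact hd.1)
  have h2 : τ ≫ σ = 𝟙 X'' :=
    (hdc.2 X'' _ hdc.1).unique (by rw [Category.assoc, hσ, hτ]) (Category.id_comp _)
  haveI : IsIso σ := ⟨τ, (he.2 X e he.1).unique (by rw [Category.assoc, hτ, hσ]) (Category.id_comp _), h2⟩
  have h3 : σ ≫ d = e' :=
    (hc.2 X e hL).unique (by rw [Category.assoc, hσ]) he'
  have h4 := isBlowUp_iso_comp hd σ
  rw [h3] at h4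
  exact h4.2 W g hg

/-- Common blow-ups exist. -/
theorem exists_common [CompactSpace S] [QuasiSeparatedSpace S] [CompactSpace A] (p₁ : Y₁ ⟶ S) (p₂ : Y₂ ⟶ S)
    [IsProper p₁] [IsProper p₂] (k₁ : A ⟶ Y₁) (k₂ : A ⟶ Y₂) [IsOpenImmersion k₁] [IsOpenImmersion k₂]
    (h : k₁ ≫ p₁ = k₂ ≫ p₂) : Nonempty (Common p₁ p₂ k₁ k₂) := by
  haveI : CompactSpace Y₁ := QuasiCompact.compactSpace_of_compactSpace p₁
  haveI : CompactSpace Y₂ := QuasiCompact.compactSpace_of_compactSpace p₂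
  haveI : QuasiSeparatedSpace Y₁ := quasiSeparatedSpace_of_quasiSeparated p₁
  haveI : QuasiSeparatedSpace Y₂ := quasiSeparatedSpace_of_quasiSeparated p₂
  haveI : QuasiSeparatedSpace (pullback p₁ p₂ : Scheme.{u}) := quasiSeparatedSpace_of_quasiSeparated (pullback.fst p₁ p₂)
  let γ : A ⟶ pullback p₁ p₂ := pullback.lift k₁ k₂ h
  haveI : QuasiCompact γ := quasiCompact_of_compactSpace γ
  let q₁ := γ.imageι ≫ pullback.fst p₁ p₂
  let q₂ := γ.imageι ≫ pullback.snd p₁ p₂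
  obtain ⟨hi₁, -, hr₁⟩ := image_proj γ (pullback.fst p₁ p₂) k₁ (pullback.lift_fst _ _ _)
  obtain ⟨hi₂, -, hr₂⟩ := image_proj γ (pullback.snd p₁ p₂) k₂ (pullback.lift_snd _ _ _)
  haveI : IsIso (q₁ ∣_ k₁.opensRange) := hi₁
  haveI : IsIso (q₂ ∣_ k₂.opensRange) := hi₂
  obtain ⟨I₁, D₁, h₁, hf₁, -, hb₁, ha₁, htop₁⟩ := exists_openImmersion (U := k₁.opensRange) (isCompact_range k₁.continuous) q₁
  obtain ⟨I₂, D₂, h₂, hf₂, -, hb₂, ha₂, htop₂⟩ := exists_openImmersion (U := k₂.opensRange) (isCompact_range k₂.continuous) q₂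
  obtain rfl := htop₁ inferInstance
  obtain rfl := htop₂ inferInstance
  let R := Set.range γ.toImage
  have hs₁ : ((I₁.ideal.comap q₁).support : Set γ.image) = Rᶜ := by
    rw [Scheme.IdealSheafData.support_comap, Closeds.coe_preimage, I₁.supp, Set.preimage_compl]
    exact congrArg (·ᶜ) hr₁.symm
  have hs₂ : ((I₂.ideal.comap q₂).support : Set γ.image) = Rᶜ := by
    rw [Scheme.IdealSheafData.support_comap, Closeds.coe_preimage, I₂.supp, Set.preimage_compl]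
    exact congrArg (·ᶜ) hr₂.symm
  let M := I₁.ideal.comap q₁ * I₂.ideal.comap q₂
  have hsM : (M.support : Set γ.image) = Rᶜ := by
    rw [Scheme.IdealSheafData.support_mul, Closeds.coe_sup, hs₁, hs₂, Set.union_self]
  obtain ⟨X, z, hz⟩ := BlowUpExist.exists_isBlowUp γ.image M
  have side : ∀ {Y : Scheme.{u}} [CompactSpace Y] [QuasiSeparatedSpace Y] {O : Y.Opens} (I : Centre O)
      (h : (⊤ : I.T.Opens).toScheme ⟶ γ.image) (q : γ.image ⟶ Y) (B : γ.image.IdealSheafData),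
      h ≫ q = (⊤ : I.T.Opens).ι ≫ I.b → BlowUp.IsBlowUp h (I.ideal.comap q) → BlowUp.IsFiniteTypeIdeal B →
      BlowUp.IsBlowUp z (I.ideal.comap q * B) → (B.support : Set γ.image) ⊆ q ⁻¹' (O : Set Y)ᶜ →
      ∃ K : Y.IdealSheafData, BlowUp.IsFiniteTypeIdeal K ∧ (K.support : Set Y) = (O : Set Y)ᶜ ∧
        BlowUp.IsBlowUp (z ≫ q) K := by
    intro Y _ _ O I h q B hf hb hB hzB hBs
    have hT : BlowUp.IsBlowUp (h ≫ q) I.ideal := by
      rw [hf, ← Scheme.topIso_hom]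
      exact isBlowUp_iso_comp I.isBlowUp _
    obtain ⟨X'', d, hd⟩ := BlowUpExist.exists_isBlowUp _ (B.comap h)
    have h1 := BlowUpLib.isBlowUp_comp hb hd
    obtain ⟨θ, hθ, -⟩ := h1.2 X z hzB.1
    obtain ⟨θ', hθ', -⟩ := hzB.2 X'' _ h1.1
    haveI : IsIso θ := ⟨θ', (hzB.2 X z hzB.1).unique (by rw [Category.assoc, hθ', hθ]) (Category.id_comp _),
      (h1.2 X'' _ h1.1).unique (by rw [Category.assoc, hθ, hθ']) (Category.id_comp _)⟩
    obtain ⟨K, hKft, hKs, hK⟩ := exists_isBlowUp_comp hT I.ft (isFiniteType_comap h hB) hd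
    refine ⟨K, hKft, ?_, ?_⟩
    · rw [hKs, I.supp, Set.union_eq_left]
      rintro _ ⟨y, hy, rfl⟩
      rw [Scheme.IdealSheafData.support_comap] at hy
      exact hBs hy
    · have := isBlowUp_iso_comp hK θ
      rwa [← Category.assoc θ, ← Category.assoc (θ ≫ d), Category.assoc θ d h, hθ] at this
  obtain ⟨K₁, hK₁f, hK₁s, hK₁⟩ := side I₁ h₁ q₁ (I₂.ideal.comap q₂) hf₁ hb₁ ha₂.1 hz
    (by rw [hs₂, Set.preimage_compl]; exact Set.compl_subset_compl.2 hr₁.ge)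
  obtain ⟨K₂, hK₂f, hK₂s, hK₂⟩ := side I₂ h₂ q₂ (I₁.ideal.comap q₁) hf₂ hb₂ ha₁.1 (mul_comm (I₁.ideal.comap q₁) _ ▸ hz)
    (by rw [hs₁, Set.preimage_compl]; exact Set.compl_subset_compl.2 hr₂.ge)
  obtain ⟨v, hv, -⟩ := hz.2 A γ.toImage (BlowUpLib.comap_restrict_eq_top _ _ fun a h => by
    replace h : γ.toImage a ∈ (M.support : Set γ.image) := h; rw [hsM] at h
    exact h ⟨a, rfl⟩)
  have hrange : Set.range v = z ⁻¹' R := by
    ext x
    constructor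
    · rintro ⟨a, rfl⟩
      exact ⟨a, by rw [← Scheme.Hom.comp_apply, hv]⟩
    · rintro ⟨a, ha⟩
      refine ⟨a, eq_of_isBlowUp hz (fun h => ?_) (by rw [← Scheme.Hom.comp_apply, hv, ha])⟩
      rw [← SetLike.mem_coe, hsM] at h
      exact h ⟨a, by rw [← Scheme.Hom.comp_apply, hv]⟩
  exact ⟨⟨X, z ≫ q₁, z ≫ q₂, by simp only [q₁, q₂, Category.assoc, pullback.condition], v,
    by show v ≫ z ≫ γ.imageι ≫ _ = _; rw [reassoc_of% hv, Scheme.Hom.toImage_imageι_assoc, pullback.lift_fst],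
    by show v ≫ z ≫ γ.imageι ≫ _ = _; rw [reassoc_of% hv, Scheme.Hom.toImage_imageι_assoc, pullback.lift_snd],
    by rw [hrange]; exact congrArg (z ⁻¹' ·) hr₁, by rw [hrange]; exact congrArg (z ⁻¹' ·) hr₂,
    K₁, K₂, hK₁, hK₂, hK₁f, hK₂f, hK₁s, hK₂s⟩⟩

end Groth.Agent.RZUnion
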