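import Groth.Agent.RZUnion.Side
import Groth.Agent.RZUnion.Two

/-!
# The compactification of the union
-/

set_option autoImplicit false
set_option linter.style.haveILetI false
set_option backward.isDefEq.respectTransparency false
set_option backward.isDefEq.respectTransparency.types false

universe u

open CategoryTheory CategoryTheory.Limits AlgebraicGeometry TopologicalSpace Topology

noncomputable section

namespace Groth.Agent.RZUnion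

open Groth.Agent.RZExt

variable {U S : Scheme.{u}} {g : U ⟶ S} {D : Data g}

namespace Stage

variable (T : Stage D)

theorem notMem_O₁ {x : T.C.X} : x ∉ T.O₁ ↔ x ∈ T.e₁ ⁻¹' closure (T.c₁ ⁻¹' D.Z₁) := not_not

/-- The open off the second closure. -/
def O₂ : T.C.X.Opens := T.symm.O₁

theorem notMem_O₂ {x : T.C.X} : x ∉ T.O₂ ↔ x ∈ T.e₂ ⁻¹' closure (T.c₂ ⁻¹' D.Z₂) := not_not

theorem mem_O₁_of_range (x : T.C.X) (hx : x ∈ Set.range T.C.v) : x ∈ T.O₁ := by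
  by_contra h
  refine Set.disjoint_left.1 T.avoid₂ (T.notMem_O₁.1 h) ?_
  obtain ⟨a, rfl⟩ := hx
  exact ⟨U.homOfLE D.le₂ a, by
    rw [← Scheme.Hom.comp_apply T.C.v, T.C.v₂]; exact (Scheme.Hom.comp_apply _ _ a).symm⟩

/-- The overlap of the final gluing. -/
def N : T.C.X.Opens := T.O₁ ⊓ T.O₂

theorem N_le₁ : T.N ≤ T.O₁ := inf_le_left

theorem N_le₂ : T.N ≤ T.O₂ := inf_le_right

theorem lift_v (L : Side T) (w : D.A.toScheme ⟶ T.O₁.toScheme) (hw : w ≫ T.O₁.ι = T.C.v) :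
    w ≫ L.φ = U.homOfLE D.le₁ ≫ L.j :=
  L.ext_A _ _ (by rw [Category.assoc, reassoc_of% L.fac_φ, T.fac₁, reassoc_of% hw, T.C.v₁])
    (by rw [Category.assoc, L.fac_j])

end Stage

/-- One glued piece. -/
structure Piece (T : Stage D) (L : Side T) {X'' : Scheme.{u}} (π : X'' ⟶ T.C.X) (f : X'' ⟶ L.Y) where
  P : L.Y.Opens
  a : T.N.toScheme ⟶ P.toScheme
  open_a : IsOpenImmersion a
  fac_a : a ≫ P.ι = T.C.X.homOfLE T.N_le₁ ≫ L.φ
  preimage : ∀ x, f x ∈ P ↔ π x ∈ T.O₂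
  j_mem : ∀ u, L.j u ∈ P
  surj : ∀ y ∈ P, ∃ x, f x = y

set_option maxHeartbeats 800000 in
theorem exists_piece [IsNoetherian S] (T : Stage D) (L : Side T) {X'' : Scheme.{u}} (π : X'' ⟶ T.C.X) (f : X'' ⟶ L.Y)
    [IsProper f] (hf : f ≫ L.d = π ≫ T.e₁) (hπ : Function.Surjective π)
    (hagree : (π ∣_ T.O₁) ≫ L.φ = (π ⁻¹ᵁ T.O₁).ι ≫ f) : Nonempty (Piece T L π f) := by
  haveI := L.open_φ
  -- points over the other closure
  let Φ : Set L.Y := f '' (π ⁻¹' ((T.O₂ : Set T.C.X))ᶜ)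
  have hΦ : IsClosed Φ := f.isClosedMap _ (T.O₂.2.isClosed_compl.preimage π.continuous)
  have hval : ∀ x (hx : π x ∈ T.O₁), f x = L.φ ⟨π x, hx⟩ := fun x hx => by
    have h1 := congrArg (fun k : (π ⁻¹ᵁ T.O₁).toScheme ⟶ L.Y => k ⟨x, hx⟩) hagree
    rw [Scheme.Hom.comp_apply, Scheme.Hom.comp_apply, morphismRestrict_base] at h1
    exact h1.symm
  have hO : ∀ x, π x ∉ T.O₂ → π x ∈ T.O₁ := fun x hx => by
    by_contra h
    exact Set.disjoint_left.1 T.disj (T.notMem_O₁.1 h) (T.notMem_O₂.1 hx)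
  have hd : ∀ x, L.d (f x) = T.e₁ (π x) := fun x => by
    rw [← Scheme.Hom.comp_apply, hf, Scheme.Hom.comp_apply]
  let P : L.Y.Opens := ⟨Φᶜ, hΦ.isOpen_compl⟩
  have hpre : ∀ x, f x ∈ P ↔ π x ∈ T.O₂ := fun x => by
    refine ⟨fun h => by_contra fun hx => h ⟨x, hx, rfl⟩, fun hx => ?_⟩
    rintro ⟨x', hx', he⟩
    have h2 : T.e₁ (π x) = T.e₁ (π x') := by rw [← hd, ← hd, he]
    have hxO : π x ∈ T.O₁ := by
      show T.e₁ (π x) ∈ T.R₁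
      rw [h2]
      exact hO x' hx'
    rw [hval x' (hO x' hx'), hval x hxO] at he
    have h3 : π x' = π x := congrArg Subtype.val (L.φ.isOpenEmbedding.injective he)
    exact hx' (show π x' ∈ T.O₂ from h3 ▸ hx)
  have hNP : Set.range (T.C.X.homOfLE T.N_le₁ ≫ L.φ) ⊆ Set.range P.ι := by
    rintro _ ⟨n, rfl⟩
    rw [Scheme.Opens.range_ι]
    obtain ⟨x, hx⟩ := hπ n.1
    have hxO : π x ∈ T.O₁ := hx ▸ T.N_le₁ n.2
    have e : f x = (T.C.X.homOfLE T.N_le₁ ≫ L.φ) n := by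
      rw [hval x hxO, Scheme.Hom.comp_apply]
      exact congrArg _ (Subtype.ext (hx.trans (coe_homOfLE_apply _ _).symm))
    rw [← e]
    exact (hpre x).2 (hx ▸ T.N_le₂ n.2)
  refine ⟨⟨P, IsOpenImmersion.lift P.ι _ hNP, ?_, IsOpenImmersion.lift_fac _ _ _, hpre, fun u => ?_, fun y _ => ?_⟩⟩
  · haveI : IsOpenImmersion (IsOpenImmersion.lift P.ι _ hNP ≫ P.ι) := by
      rw [IsOpenImmersion.lift_fac]; infer_instance
    exact IsOpenImmersion.of_comp _ P.ι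
  · rintro ⟨x, hx, he⟩
    refine Set.disjoint_left.1 T.avoid₁ (T.notMem_O₂.1 hx) ⟨u, ?_⟩
    rw [← T.fac₁, Scheme.Hom.comp_apply, ← hd, he, ← Scheme.Hom.comp_apply L.j, ← Scheme.Hom.comp_apply,
      Category.assoc, L.fac_j]
  · suffices h : Set.range f = Set.univ from h.ge (Set.mem_univ y)
    rw [← f.isClosedMap.isClosed_range.closure_eq]
    refine (L.dense.mono ?_).closure_eq
    rintro _ ⟨a, rfl⟩
    have hva : T.C.v a ∈ T.O₁ := T.mem_O₁_of_range _ ⟨a, rfl⟩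
    obtain ⟨x, hx⟩ := hπ (T.C.v a)
    refine ⟨x, ?_⟩
    rw [hval x (hx ▸ hva)]
    let vO : D.A.toScheme ⟶ T.O₁.toScheme := IsOpenImmersion.lift T.O₁.ι T.C.v (by
      rw [Scheme.Opens.range_ι]
      rintro _ ⟨b, rfl⟩
      exact T.mem_O₁_of_range _ ⟨b, rfl⟩)
    have hvO : vO ≫ T.O₁.ι = T.C.v := IsOpenImmersion.lift_fac _ _ _
    have key : vO ≫ L.φ = U.homOfLE D.le₁ ≫ L.j := L.ext_A _ _
      (by rw [Category.assoc, reassoc_of% L.fac_φ, T.fac₁, reassoc_of% hvO, T.C.v₁])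
      (by rw [Category.assoc, L.fac_j])
    rw [← key, Scheme.Hom.comp_apply]
    refine congrArg _ (Subtype.ext ?_)
    show π x = _
    rw [hx, ← hvO, Scheme.Hom.comp_apply]
    rfl

end Groth.Agent.RZUnion

namespace Groth.Agent.RZUnion

open Groth.Agent.RZExt CategoryTheory CategoryTheory.Limits AlgebraicGeometry

variable {U S : Scheme.{u}} {g : U ⟶ S}

set_option maxHeartbeats 3200000 in
/-- Two compactified opens with dense intersection give a compactification of the union. -/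
theorem exists_compactification [IsNoetherian S] [IsSeparated g] (D : Data g) [CompactSpace D.A.toScheme] :
    ∃ (Y : Scheme.{u}) (j : U ⟶ Y) (p : Y ⟶ S), IsOpenImmersion j ∧ IsProper p ∧ j ≫ p = g := by
  classical
  obtain ⟨T⟩ := exists_stage D
  obtain ⟨L₁⟩ := exists_sideData T
  obtain ⟨L₂⟩ := exists_sideData T.symm
  haveI := D.isNoetherian_model T.C
  haveI := D.compactSpace₁
  haveI := T.C.isProper₁
  haveI := T.C.isOpenImmersion_v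
  haveI := L₁.open_φ
  haveI := L₂.open_φ
  let M := L₁.J.comap T.e₁ * L₂.J.comap T.e₂
  obtain ⟨X'', π, hπ⟩ := BlowUpExist.exists_isBlowUp T.C.X M
  have hMv : Disjoint (M.support : Set T.C.X) (Set.range T.C.v) := by
    rw [Scheme.IdealSheafData.support_mul, TopologicalSpace.Closeds.coe_sup, Scheme.IdealSheafData.support_comap,
      Scheme.IdealSheafData.support_comap]
    refine Set.disjoint_left.2 fun x hx hxv => ?_
    rcases hx with hx | hx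
    · refine Set.disjoint_left.1 L₁.adm hx ?_
      obtain ⟨a, ha⟩ := T.C.range₁.subset hxv
      refine ⟨U.homOfLE D.le₁ a, ?_⟩
      rw [← Scheme.Hom.comp_apply, ha, ← T.fac₁, Scheme.Hom.comp_apply]
    · refine Set.disjoint_left.1 L₂.adm hx ?_
      obtain ⟨a, ha⟩ := T.C.range₂.subset hxv
      refine ⟨U.homOfLE D.le₂ a, ?_⟩
      show D.j₂ (U.homOfLE D.le₂ a) = T.c₂ (T.e₂ x)
      rw [← Scheme.Hom.comp_apply, ha, ← T.fac₂, Scheme.Hom.comp_apply]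
  haveI : IsProper π := BlowUpExist.isProper_of_isFiniteType hπ (isFiniteType_of_isLocallyNoetherian _)
  have hπs : Function.Surjective π := by
    rw [← Set.range_eq_univ, ← π.isClosedMap.isClosed_range.closure_eq]
    refine ((T.C.dense.mono ?_).closure_eq)
    rintro x hx
    haveI := BlowUpLib.isIso_restrict hπ
    let O : T.C.X.Opens := M.support.compl
    obtain ⟨z, hz⟩ := (π ∣_ O).surjective ⟨x, fun h => Set.disjoint_left.1 hMv h hx⟩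
    rw [morphismRestrict_base] at hz
    exact ⟨z.1, congrArg Subtype.val hz⟩
  have hcart := hπ.1
  rw [BlowUpLib.comap_mul, ← Scheme.IdealSheafData.comap_comp, ← Scheme.IdealSheafData.comap_comp] at hcart
  have hcart₁ := BlowUpLib.cartier_of_mul_left hcart
  have hcart₂ := BlowUpLib.cartier_of_mul_right hcart
  obtain ⟨f₁, hf₁, -⟩ := L₁.blowUp.2 X'' (π ≫ T.e₁) hcart₁
  obtain ⟨f₂, hf₂, -⟩ := L₂.blowUp.2 X'' (π ≫ T.e₂) hcart₂
  let qX : X'' ⟶ S := π ≫ T.C.e₁ ≫ D.p₁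
  haveI : IsProper qX := inferInstance
  let q₁ : L₁.Y ⟶ S := L₁.d ≫ T.c₁ ≫ D.p₁
  let q₂ : L₂.Y ⟶ S := L₂.d ≫ T.c₂ ≫ D.p₂
  haveI : IsProper q₁ := L₁.proper
  haveI : IsProper q₂ := L₂.proper
  have hq₁ : f₁ ≫ q₁ = qX := by
    show f₁ ≫ L₁.d ≫ T.c₁ ≫ D.p₁ = _
    rw [reassoc_of% hf₁, reassoc_of% T.fac₁]
  have hq₂ : f₂ ≫ q₂ = qX := by
    show f₂ ≫ L₂.d ≫ T.c₂ ≫ D.p₂ = _
    rw [reassoc_of% hf₂, reassoc_of% T.fac₂, ← T.C.over']
  haveI : IsProper (f₁ ≫ q₁) := hq₁ ▸ inferInstance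
  haveI : IsProper (f₂ ≫ q₂) := hq₂ ▸ inferInstance
  haveI : IsProper f₁ := IsProper.of_comp (f := f₁) (g := q₁)
  haveI : IsProper f₂ := IsProper.of_comp (f := f₂) (g := q₂)
  have agree₁ : (π ∣_ T.O₁) ≫ L₁.φ = (π ⁻¹ᵁ T.O₁).ι ≫ f₁ := by
    refine (L₁.blowUp.2 _ ((π ⁻¹ᵁ T.O₁).ι ≫ π ≫ T.e₁) ?_).unique ?_ ?_
    · rw [Scheme.IdealSheafData.comap_comp]
      exact BlowUpLib.cartier_comap_flat hcart₁ _
    · rw [Category.assoc, L₁.fac_φ, morphismRestrict_ι_assoc]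
    · rw [Category.assoc, hf₁]
  have agree₂ : (π ∣_ T.O₂) ≫ L₂.φ = (π ⁻¹ᵁ T.O₂).ι ≫ f₂ := by
    refine (L₂.blowUp.2 _ ((π ⁻¹ᵁ T.O₂).ι ≫ π ≫ T.e₂) ?_).unique ?_ ?_
    · rw [Scheme.IdealSheafData.comap_comp]
      exact BlowUpLib.cartier_comap_flat hcart₂ _
    · rw [Category.assoc]
      erw [L₂.fac_φ]
      exact morphismRestrict_ι_assoc π T.O₂ _
    · rw [Category.assoc, hf₂]
  obtain ⟨Q₁⟩ := exists_piece T L₁ π f₁ hf₁ hπs agree₁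
  obtain ⟨Q₂⟩ := exists_piece T.symm L₂ π f₂ hf₂ hπs agree₂
  haveI := Q₁.open_a
  haveI := Q₂.open_a
  have hN : T.N ≤ T.symm.N := le_inf T.N_le₂ T.N_le₁
  let a₁ : T.N.toScheme ⟶ Q₁.P.toScheme := Q₁.a
  let a₂ : T.N.toScheme ⟶ Q₂.P.toScheme := T.C.X.homOfLE hN ≫ Q₂.a
  haveI : IsOpenImmersion a₂ := inferInstance
  have fac₂ : a₂ ≫ Q₂.P.ι = T.C.X.homOfLE T.N_le₂ ≫ L₂.φ := by
    show (T.C.X.homOfLE hN ≫ Q₂.a) ≫ Q₂.P.ι = _
    rw [Category.assoc]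
    erw [Q₂.fac_a]
    exact (Scheme.homOfLE_homOfLE_assoc T.C.X hN T.symm.N_le₁ L₂.φ)
  have hφ₂ : L₂.φ ≫ L₂.d = T.O₂.ι ≫ T.e₂ := L₂.fac_φ
  -- compatibility on the overlap
  let NN : X''.Opens := π ⁻¹ᵁ T.N
  have hn₁ : (π ∣_ T.N) ≫ a₁ ≫ Q₁.P.ι = NN.ι ≫ f₁ := by
    have hle : NN ≤ π ⁻¹ᵁ T.O₁ := fun x hx => T.N_le₁ hx
    have e : (π ∣_ T.N) ≫ T.C.X.homOfLE T.N_le₁ = X''.homOfLE hle ≫ (π ∣_ T.O₁) := by
      rw [← cancel_mono T.O₁.ι, Category.assoc, Category.assoc, Scheme.homOfLE_ι, morphismRestrict_ι,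
        morphismRestrict_ι, Scheme.homOfLE_ι_assoc]
    rw [Q₁.fac_a, reassoc_of% e, agree₁, Scheme.homOfLE_ι_assoc]
  have hn₂ : (π ∣_ T.N) ≫ a₂ ≫ Q₂.P.ι = NN.ι ≫ f₂ := by
    have hle : NN ≤ π ⁻¹ᵁ T.O₂ := fun x hx => T.N_le₂ hx
    have e : (π ∣_ T.N) ≫ T.C.X.homOfLE T.N_le₂ = X''.homOfLE hle ≫ (π ∣_ T.O₂) := by
      rw [← cancel_mono T.O₂.ι, Category.assoc, Category.assoc, Scheme.homOfLE_ι, morphismRestrict_ι,
        morphismRestrict_ι, Scheme.homOfLE_ι_assoc]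
    rw [fac₂, reassoc_of% e]
    erw [agree₂]
    rw [Scheme.homOfLE_ι_assoc]
  let r₁ : Q₁.P.toScheme ⟶ S := Q₁.P.ι ≫ q₁
  let r₂ : Q₂.P.toScheme ⟶ S := Q₂.P.ι ≫ q₂
  haveI : QuasiCompact r₁ := by
    haveI := D.isNoetherian₁
    haveI : CompactSpace L₁.Y := QuasiCompact.compactSpace_of_compactSpace q₁
    haveI := LocallyOfFiniteType.isLocallyNoetherian q₁
    haveI : IsNoetherian L₁.Y := {}
    haveI : QuasiCompact Q₁.P.ι := inferInstance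
    infer_instance
  haveI : QuasiCompact r₂ := by
    haveI : CompactSpace L₂.Y := QuasiCompact.compactSpace_of_compactSpace q₂
    haveI := LocallyOfFiniteType.isLocallyNoetherian q₂
    haveI : IsNoetherian L₂.Y := {}
    haveI : QuasiCompact Q₂.P.ι := inferInstance
    infer_instance
  have hπN : Function.Surjective (π ∣_ T.N) := fun n => by
    obtain ⟨x, hx⟩ := hπs n.1
    exact ⟨⟨x, show π x ∈ T.N from hx ▸ n.2⟩, by rw [morphismRestrict_base]; exact Subtype.ext hx⟩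
  have hover : a₁ ≫ r₁ = a₂ ≫ r₂ := by
    show a₁ ≫ Q₁.P.ι ≫ q₁ = a₂ ≫ Q₂.P.ι ≫ q₂
    have h1 : a₁ ≫ Q₁.P.ι ≫ q₁ = T.N.ι ≫ T.C.e₁ ≫ D.p₁ := by
      rw [← Category.assoc, Q₁.fac_a, Category.assoc]
      show _ ≫ L₁.φ ≫ L₁.d ≫ T.c₁ ≫ D.p₁ = _
      rw [reassoc_of% L₁.fac_φ, Scheme.homOfLE_ι_assoc, reassoc_of% T.fac₁]
    have h2 : a₂ ≫ Q₂.P.ι ≫ q₂ = T.N.ι ≫ T.C.e₂ ≫ D.p₂ := by
      rw [← Category.assoc, fac₂, Category.assoc]
      show _ ≫ L₂.φ ≫ L₂.d ≫ T.c₂ ≫ D.p₂ = _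
      rw [reassoc_of% hφ₂, Scheme.homOfLE_ι_assoc, reassoc_of% T.fac₂]
    rw [h1, h2, T.C.over']
  haveI hsep : IsSeparated (pushout.desc r₁ r₂ hover) := by
    refine isSeparated_pushout_desc a₁ a₂ r₁ r₂ hover ?_
    let h : X'' ⟶ pullback q₁ q₂ := pullback.lift f₁ f₂ (hq₁.trans hq₂.symm)
    haveI : IsProper (h ≫ pullback.fst q₁ q₂) := by rw [pullback.lift_fst]; infer_instance
    haveI : IsProper h := IsProper.of_comp (f := h) (g := pullback.fst q₁ q₂)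
    let m : pullback r₁ r₂ ⟶ pullback q₁ q₂ := pullback.map r₁ r₂ q₁ q₂ Q₁.P.ι Q₂.P.ι (𝟙 S) (by simp [r₁]) (by simp [r₂])
    let l := pullback.lift a₁ a₂ hover
    have hl : (π ∣_ T.N) ≫ l ≫ m = NN.ι ≫ h := by
      apply pullback.hom_ext <;> simp [l, m, h, hn₁, hn₂]
    have e : Set.range l = m ⁻¹' Set.range h := by
      ext w
      constructor
      · rintro ⟨n, rfl⟩
        obtain ⟨x, rfl⟩ := hπN n
        exact ⟨NN.ι x, by rw [← Scheme.Hom.comp_apply, ← hl, Scheme.Hom.comp_apply, Scheme.Hom.comp_apply]⟩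
      · rintro ⟨x, hx⟩
        have h1 : f₁ x ∈ Q₁.P := by
          rw [show f₁ x = pullback.fst q₁ q₂ (h x) by rw [← Scheme.Hom.comp_apply, pullback.lift_fst], hx,
            ← Scheme.Hom.comp_apply, pullback.lift_fst, Scheme.Hom.comp_apply]
          exact (pullback.fst r₁ r₂ w).2
        have h2 : f₂ x ∈ Q₂.P := by
          rw [show f₂ x = pullback.snd q₁ q₂ (h x) by rw [← Scheme.Hom.comp_apply, pullback.lift_snd], hx,
            ← Scheme.Hom.comp_apply, pullback.lift_snd, Scheme.Hom.comp_apply]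
          exact (pullback.snd r₁ r₂ w).2
        have hxN : x ∈ NN := ⟨(Q₂.preimage x).1 h2, (Q₁.preimage x).1 h1⟩
        refine ⟨(π ∣_ T.N) ⟨x, hxN⟩, m.isOpenEmbedding.injective ?_⟩
        rw [← hx, ← Scheme.Hom.comp_apply, ← Scheme.Hom.comp_apply, hl, Scheme.Hom.comp_apply]
        rfl
    rw [e]
    exact h.isClosedMap.isClosed_range.preimage m.continuous
  obtain ⟨hlft, hqc⟩ := finite_type_pushout_desc a₁ a₂ r₁ r₂ hover
  haveI := LimModel.isOpenImmersion_inl a₁ a₂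
  haveI := LimModel.isOpenImmersion_inr a₁ a₂
  let qY := pushout.desc r₁ r₂ hover
  -- the surjection
  have hcov : ∀ x : T.C.X, x ∈ T.O₁ ∨ x ∈ T.O₂ := fun x => by
    by_contra! h
    exact Set.disjoint_left.1 T.disj (T.notMem_O₁.1 h.1) (T.notMem_O₂.1 h.2)
  let W₁ : X''.Opens := π ⁻¹ᵁ T.O₂
  let W₂ : X''.Opens := π ⁻¹ᵁ T.O₁
  let s₁ : W₁.toScheme ⟶ Q₁.P.toScheme := IsOpenImmersion.lift Q₁.P.ι (W₁.ι ≫ f₁) (by
    rw [Scheme.Opens.range_ι]; rintro _ ⟨x, rfl⟩; exact (Q₁.preimage _).2 x.2)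
  let s₂ : W₂.toScheme ⟶ Q₂.P.toScheme := IsOpenImmersion.lift Q₂.P.ι (W₂.ι ≫ f₂) (by
    rw [Scheme.Opens.range_ι]; rintro _ ⟨x, rfl⟩; exact (Q₂.preimage _).2 x.2)
  have hs₁ : s₁ ≫ Q₁.P.ι = W₁.ι ≫ f₁ := IsOpenImmersion.lift_fac _ _ _
  have hs₂ : s₂ ≫ Q₂.P.ι = W₂.ι ≫ f₂ := IsOpenImmersion.lift_fac _ _ _
  have hs : ∀ {Z : Scheme.{u}} (z₁ : Z ⟶ W₁.toScheme) (z₂ : Z ⟶ W₂.toScheme), z₁ ≫ W₁.ι = z₂ ≫ W₂.ι →
      z₁ ≫ s₁ ≫ pushout.inl a₁ a₂ = z₂ ≫ s₂ ≫ pushout.inr a₁ a₂ := by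
    intro Z z₁ z₂ hz
    let z : Z ⟶ NN.toScheme := IsOpenImmersion.lift NN.ι (z₁ ≫ W₁.ι) (by
      rw [Scheme.Opens.range_ι]
      rintro _ ⟨p, rfl⟩
      refine ⟨?_, (z₁ p).2⟩
      rw [hz]
      exact (z₂ p).2)
    have hzι : z ≫ NN.ι = z₁ ≫ W₁.ι := IsOpenImmersion.lift_fac _ _ _
    have e₁ : z₁ ≫ s₁ = z ≫ (π ∣_ T.N) ≫ a₁ := by
      rw [← cancel_mono Q₁.P.ι, Category.assoc, Category.assoc, Category.assoc, hs₁, hn₁, reassoc_of% hzι]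
    have e₂ : z₂ ≫ s₂ = z ≫ (π ∣_ T.N) ≫ a₂ := by
      rw [← cancel_mono Q₂.P.ι, Category.assoc, Category.assoc, Category.assoc, hs₂, hn₂, reassoc_of% hzι,
        reassoc_of% hz]
    rw [reassoc_of% e₁, reassoc_of% e₂, pushout.condition]
  have hW : ∀ x, x ∈ W₁ ∨ x ∈ W₂ := fun x => (hcov (π x)).symm
  obtain ⟨F, hF₁, hF₂⟩ := exists_glue_two W₁ W₂ hW (s₁ ≫ pushout.inl a₁ a₂) (s₂ ≫ pushout.inr a₁ a₂) hs
  have hFq : F ≫ qY = qX := by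
    refine hom_ext_two W₁ W₂ hW _ _ ?_ ?_
    · rw [reassoc_of% hF₁, pushout.inl_desc, reassoc_of% hs₁, hq₁]
    · rw [reassoc_of% hF₂, pushout.inr_desc, reassoc_of% hs₂, hq₂]
  haveI : Surjective F := ⟨fun y => by
    rcases (LimModel.inl_range_sup_inr_range a₁ a₂).ge (Set.mem_univ y) with ⟨p, rfl⟩ | ⟨p, rfl⟩
    · obtain ⟨x, hx⟩ := Q₁.surj _ p.2
      have hxW : x ∈ W₁ := (Q₁.preimage x).1 (hx ▸ p.2)
      refine ⟨W₁.ι ⟨x, hxW⟩, ?_⟩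
      rw [← Scheme.Hom.comp_apply, hF₁, Scheme.Hom.comp_apply]
      refine congrArg _ (Q₁.P.ι.isOpenEmbedding.injective ?_)
      rw [← Scheme.Hom.comp_apply, hs₁]
      exact hx
    · obtain ⟨x, hx⟩ := Q₂.surj _ p.2
      have hxW : x ∈ W₂ := (Q₂.preimage x).1 (hx ▸ p.2)
      refine ⟨W₂.ι ⟨x, hxW⟩, ?_⟩
      rw [← Scheme.Hom.comp_apply, hF₂, Scheme.Hom.comp_apply]
      refine congrArg _ (Q₂.P.ι.isOpenEmbedding.injective ?_)
      rw [← Scheme.Hom.comp_apply, hs₂]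
      exact hx⟩
  haveI : IsProper qY := by
    haveI : UniversallyClosed (F ≫ qY) := hFq ▸ inferInstance
    haveI : UniversallyClosed qY := UniversallyClosed.of_comp_surjective F qY
    exact {}
  -- the open immersion
  haveI := L₁.open_j
  haveI := L₂.open_j
  let u₁ : D.U₁.toScheme ⟶ Q₁.P.toScheme := IsOpenImmersion.lift Q₁.P.ι L₁.j (by
    rw [Scheme.Opens.range_ι]; rintro _ ⟨x, rfl⟩; exact Q₁.j_mem x)
  let u₂ : D.U₂.toScheme ⟶ Q₂.P.toScheme := IsOpenImmersion.lift Q₂.P.ι L₂.j (by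
    rw [Scheme.Opens.range_ι]; rintro _ ⟨x, rfl⟩; exact Q₂.j_mem x)
  have hu₁ : u₁ ≫ Q₁.P.ι = L₁.j := IsOpenImmersion.lift_fac _ _ _
  have hu₂ : u₂ ≫ Q₂.P.ι = L₂.j := IsOpenImmersion.lift_fac _ _ _
  have hvN : ∀ a, T.C.v a ∈ T.N := fun a => ⟨T.mem_O₁_of_range _ ⟨a, rfl⟩, T.symm.mem_O₁_of_range _ ⟨a, rfl⟩⟩
  let vN : D.A.toScheme ⟶ T.N.toScheme := IsOpenImmersion.lift T.N.ι T.C.v (by
    rw [Scheme.Opens.range_ι]; rintro _ ⟨a, rfl⟩; exact hvN a)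
  have hvN' : vN ≫ T.N.ι = T.C.v := IsOpenImmersion.lift_fac _ _ _
  have hv₁ : U.homOfLE D.le₁ ≫ u₁ = vN ≫ a₁ := by
    rw [← cancel_mono Q₁.P.ι, Category.assoc, Category.assoc, hu₁, Q₁.fac_a, ← Category.assoc]
    exact (Stage.lift_v T L₁ (vN ≫ T.C.X.homOfLE T.N_le₁)
      ((Category.assoc _ _ _).trans ((congrArg _ (Scheme.homOfLE_ι _ _)).trans hvN'))).symm
  have hv₂ : U.homOfLE D.le₂ ≫ u₂ = vN ≫ a₂ := by
    rw [← cancel_mono Q₂.P.ι, Category.assoc, Category.assoc, hu₂, fac₂, ← Category.assoc]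
    exact (Stage.lift_v T.symm L₂ (vN ≫ T.C.X.homOfLE T.N_le₂)
      ((Category.assoc _ _ _).trans ((congrArg _ (Scheme.homOfLE_ι _ _)).trans hvN'))).symm
  have hag : ∀ {Z : Scheme.{u}} (z₁ : Z ⟶ D.U₁.toScheme) (z₂ : Z ⟶ D.U₂.toScheme), z₁ ≫ D.U₁.ι = z₂ ≫ D.U₂.ι →
      z₁ ≫ u₁ ≫ pushout.inl a₁ a₂ = z₂ ≫ u₂ ≫ pushout.inr a₁ a₂ := by
    intro Z z₁ z₂ hz
    let z : Z ⟶ D.A.toScheme := IsOpenImmersion.lift D.A.ι (z₁ ≫ D.U₁.ι) (by
      rw [Scheme.Opens.range_ι]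
      rintro _ ⟨p, rfl⟩
      refine D.inter _ (z₁ p).2 ?_
      rw [hz]
      exact (z₂ p).2)
    have hzι : z ≫ D.A.ι = z₁ ≫ D.U₁.ι := IsOpenImmersion.lift_fac _ _ _
    have e₁ : z₁ = z ≫ U.homOfLE D.le₁ := by
      rw [← cancel_mono D.U₁.ι, Category.assoc, Scheme.homOfLE_ι, hzι]
    have e₂ : z₂ = z ≫ U.homOfLE D.le₂ := by
      rw [← cancel_mono D.U₂.ι, Category.assoc, Scheme.homOfLE_ι, hzι, hz]
    rw [e₁, e₂, Category.assoc, Category.assoc, reassoc_of% hv₁, reassoc_of% hv₂, pushout.condition]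
  have hU12 : ∀ x, x ∈ D.U₁ ∨ x ∈ D.U₂ := fun x =>
    TopologicalSpace.Opens.mem_sup.1 (D.cov.ge (Set.mem_univ x) : x ∈ D.U₁ ⊔ D.U₂)
  obtain ⟨jY, hj₁, hj₂⟩ := exists_glue_two D.U₁ D.U₂ hU12 (u₁ ≫ pushout.inl a₁ a₂) (u₂ ≫ pushout.inr a₁ a₂) hag
  haveI : IsOpenImmersion u₁ := by
    haveI : IsOpenImmersion (u₁ ≫ Q₁.P.ι) := hu₁ ▸ inferInstance
    exact IsOpenImmersion.of_comp u₁ Q₁.P.ι
  haveI : IsOpenImmersion u₂ := by
    haveI : IsOpenImmersion (u₂ ≫ Q₂.P.ι) := hu₂ ▸ inferInstance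
    exact IsOpenImmersion.of_comp u₂ Q₂.P.ι
  have hmem : ∀ (x : D.U₁.toScheme) (y : D.U₂.toScheme), pushout.inl a₁ a₂ (u₁ x) = pushout.inr a₁ a₂ (u₂ y) →
      x.1 ∈ D.U₂ := fun x y h => by
    obtain ⟨n, hn, -⟩ := LimModel.exists_of_inl_eq_inr a₁ a₂ h
    by_contra hx
    have h1 : L₁.j x ∈ Set.range L₁.φ := by
      refine ⟨T.C.X.homOfLE T.N_le₁ n, ?_⟩
      rw [← Scheme.Hom.comp_apply, ← Q₁.fac_a, ← hu₁, Scheme.Hom.comp_apply, Scheme.Hom.comp_apply]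
      exact congrArg _ hn
    rw [L₁.range_φ] at h1
    refine h1 (subset_closure ?_)
    show T.c₁ (L₁.d (L₁.j x)) ∈ D.Z₁
    rw [← Scheme.Hom.comp_apply, ← Scheme.Hom.comp_apply, L₁.fac_j]
    exact ⟨x, hx, rfl⟩
  have hval₁ : ∀ x : D.U₁.toScheme, jY x.1 = pushout.inl a₁ a₂ (u₁ x) := fun x => by
    rw [← Scheme.Hom.comp_apply, ← hj₁]; rfl
  have hval₂ : ∀ x : D.U₂.toScheme, jY x.1 = pushout.inr a₁ a₂ (u₂ x) := fun x => by
    rw [← Scheme.Hom.comp_apply, ← hj₂]; rfl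
  haveI : IsOpenImmersion (D.U₁.ι ≫ jY) := by rw [hj₁]; infer_instance
  haveI : IsOpenImmersion (D.U₂.ι ≫ jY) := by rw [hj₂]; infer_instance
  refine ⟨_, jY, qY, isOpenImmersion_two D.U₁ D.U₂ hU12 jY fun x y hx hy h =>
    hmem ⟨x, hx⟩ ⟨y, hy⟩ ((hval₁ ⟨x, hx⟩).symm.trans (h.trans (hval₂ ⟨y, hy⟩))), inferInstance,
    hom_ext_two D.U₁ D.U₂ hU12 _ _ ?_ ?_⟩
  · rw [reassoc_of% hj₁, pushout.inl_desc, reassoc_of% hu₁]
    erw [reassoc_of% L₁.fac_j]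
    exact D.over₁
  · rw [reassoc_of% hj₂, pushout.inr_desc, reassoc_of% hu₂]
    erw [reassoc_of% L₂.fac_j]
    exact D.over₂

end Groth.Agent.RZUnion
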