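import Groth.Agent.RZUnion.Separate

/-!
# The blow-up of one side agreeing with the common model off the closure of the complement
-/

set_option autoImplicit false
set_option linter.style.haveILetI false
set_option backward.isDefEq.respectTransparency false
set_option backward.isDefEq.respectTransparency.types false

universe u

open CategoryTheory CategoryTheory.Limits AlgebraicGeometry TopologicalSpace Topology

noncomputable section

namespace Groth.Agent.RZUnion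

open Groth.Agent.RZExt

variable {U S : Scheme.{u}} {g : U ⟶ S} {D : Data g}

namespace Stage

variable (T : Stage D)

/-- The open of the blown up first scheme off the closure of the complement. -/
def R₁ : T.Y₁'.Opens := ⟨(closure (T.c₁ ⁻¹' D.Z₁))ᶜ, isClosed_closure.isOpen_compl⟩

/-- Its preimage in the model. -/
def O₁ : T.C.X.Opens := T.e₁ ⁻¹ᵁ T.R₁

end Stage

/-- One side of the final construction. -/
structure Side (T : Stage D) where
  Y : Scheme.{u}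
  d : Y ⟶ T.Y₁'
  J : T.Y₁'.IdealSheafData
  blowUp : BlowUp.IsBlowUp d J
  ft : BlowUp.IsFiniteTypeIdeal J
  adm : Disjoint (J.support : Set T.Y₁') (T.c₁ ⁻¹' Set.range D.j₁)
  proper : IsProper (d ≫ T.c₁ ≫ D.p₁)
  j : D.U₁.toScheme ⟶ Y
  open_j : IsOpenImmersion j
  fac_j : j ≫ d ≫ T.c₁ = D.j₁
  range_j : Set.range j = (d ≫ T.c₁) ⁻¹' Set.range D.j₁
  ext_A : ∀ (a b : D.A.toScheme ⟶ Y), a ≫ d ≫ T.c₁ = D.k₁ → b ≫ d ≫ T.c₁ = D.k₁ → a = b
  φ : T.O₁.toScheme ⟶ Y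
  open_φ : IsOpenImmersion φ
  fac_φ : φ ≫ d = T.O₁.ι ≫ T.e₁
  range_φ : Set.range φ = d ⁻¹' (T.R₁ : Set T.Y₁')
  dense : Dense (Set.range (U.homOfLE D.le₁ ≫ j))

set_option maxHeartbeats 800000 in
theorem exists_sideData [IsNoetherian S] (T : Stage D) : Nonempty (Side T) := by
  haveI := D.isNoetherian₁
  haveI := D.quasiSeparatedSpace₁
  haveI : IsProper T.c₁ := BlowUpExist.isProper_of_isFiniteType T.hc₁ T.ft₁
  haveI : CompactSpace T.Y₁' := QuasiCompact.compactSpace_of_compactSpace T.c₁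
  haveI := LocallyOfFiniteType.isLocallyNoetherian T.c₁
  haveI : IsNoetherian T.Y₁' := {}
  haveI : QuasiSeparatedSpace T.Y₁' := quasiSeparatedSpace_of_quasiSeparated T.c₁
  let M := T.C.K₁.comap T.c₁
  have hMft : BlowUp.IsFiniteTypeIdeal M := isFiniteType_of_isLocallyNoetherian _
  have hRM : ∀ y ∈ T.R₁, T.c₁ y ∈ Set.range D.j₁ → y ∉ M.support := fun y hy hyj hyM => by
    rcases D.range_j₁_subset hyj with h | h
    · rw [← SetLike.mem_coe, Scheme.IdealSheafData.support_comap, Closeds.coe_preimage, T.C.supp₁] at hyM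
      exact hyM h
    · exact hy (subset_closure h)
  obtain ⟨J, hJft, hJd, hJres⟩ := exists_extend_centre (T.c₁ ⁻¹ᵁ D.j₁.opensRange) T.R₁
    (TopologicalSpace.NoetherianSpace.isCompact _) (TopologicalSpace.NoetherianSpace.isCompact _)
    (M.comap T.R₁.ι) (isFiniteType_comap _ hMft) (Set.disjoint_left.2 fun y hy hyj => by
      rw [Scheme.IdealSheafData.support_comap] at hy
      exact hRM y.1 y.2 hyj hy)
  obtain ⟨Yf, d, hd⟩ := BlowUpExist.exists_isBlowUp T.Y₁' J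
  haveI : IsProper d := BlowUpExist.isProper_of_isFiniteType hd hJft
  obtain ⟨N, hNft, hNs, hN⟩ := exists_isBlowUp_comp T.hc₁ T.ft₁ hJft hd
  have hNd : Disjoint (N.support : Set D.Y₁) (Set.range D.j₁) := by
    rw [hNs]
    refine Set.disjoint_union_left.2 ⟨T.adm₁, ?_⟩
    rw [Set.disjoint_left]
    rintro _ ⟨y, hy, rfl⟩ hyj
    exact Set.disjoint_left.1 hJd hy hyj
  have hcartj : BlowUp.IsEffCartierIdeal (N.comap D.j₁) :=
    BlowUpLib.comap_restrict_eq_top _ _ fun u h => Set.disjoint_left.1 hNd h ⟨u, rfl⟩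
  obtain ⟨j, hj, hjuniq⟩ := hN.2 _ D.j₁ hcartj
  haveI hjo : IsOpenImmersion j := isOpenImmersion_of_lift hN D.j₁ hNd j hj
  have hrange : Set.range j = (d ≫ T.c₁) ⁻¹' Set.range D.j₁ := by
    ext y
    constructor
    · rintro ⟨u, rfl⟩
      exact ⟨u, by rw [← Scheme.Hom.comp_apply j, hj]⟩
    · rintro ⟨u, hu⟩
      refine ⟨u, eq_of_isBlowUp hN (fun h => Set.disjoint_left.1 hNd h ⟨u, ?_⟩) ?_⟩
      · rw [← Scheme.Hom.comp_apply j, hj]
      · rw [← Scheme.Hom.comp_apply j, hj, hu]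
  have hextA : ∀ (a b : D.A.toScheme ⟶ Yf), a ≫ d ≫ T.c₁ = D.k₁ → b ≫ d ≫ T.c₁ = D.k₁ → a = b :=
    fun a b ha hb => by
      refine (hN.2 _ D.k₁ (BlowUpLib.comap_restrict_eq_top _ _ fun u h => Set.disjoint_left.1 hNd h ⟨U.homOfLE D.le₁ u, ?_⟩)).unique ha hb
      exact (Scheme.Hom.comp_apply _ _ u).symm
  have h1 := BlowUpLib.isBlowUp_flat T.R₁.ι T.blow₁
  rw [← hJres] at h1
  have h2 := BlowUpLib.isBlowUp_flat T.R₁.ι hd
  obtain ⟨θ, hθ, -⟩ := h2.2 _ (pullback.fst T.R₁.ι T.e₁) h1.1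
  obtain ⟨θ', hθ', -⟩ := h1.2 _ (pullback.fst T.R₁.ι d) h2.1
  haveI : IsIso θ := ⟨θ', (h1.2 _ _ h1.1).unique (by rw [Category.assoc, hθ', hθ]) (Category.id_comp _),
    (h2.2 _ _ h2.1).unique (by rw [Category.assoc, hθ, hθ']) (Category.id_comp _)⟩
  let i := (isPullback_morphismRestrict T.e₁ T.R₁).isoPullback
  let φ : T.O₁.toScheme ⟶ Yf := i.hom ≫ θ ≫ pullback.snd T.R₁.ι d
  haveI hφo : IsOpenImmersion φ := inferInstance
  have hφd : φ ≫ d = T.O₁.ι ≫ T.e₁ := by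
    show (i.hom ≫ θ ≫ pullback.snd T.R₁.ι d) ≫ d = _
    rw [Category.assoc, Category.assoc, ← pullback.condition, reassoc_of% hθ, pullback.condition,
      IsPullback.isoPullback_hom_snd_assoc]
    rfl
  have hrφ : Set.range φ = d ⁻¹' (T.R₁ : Set T.Y₁') := by
    have hs : Function.Surjective (i.hom ≫ θ) := (i.hom ≫ θ).surjective
    show Set.range ((i.hom ≫ θ) ≫ pullback.snd T.R₁.ι d) = _
    rw [Scheme.Hom.comp_base, TopCat.coe_comp, hs.range_comp, IsOpenImmersion.range_pullbackSnd,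
      Scheme.Opens.opensRange_ι]
    rfl
  refine ⟨⟨Yf, d, J, hd, hJft, hJd, inferInstance, j, hjo, hj, hrange, hextA, φ, hφo, hφd, hrφ, ?_⟩⟩
  rw [dense_iff_inter_open]
  intro O hO hne
  haveI := BlowUpLib.isIso_restrict hN
  let W : D.Y₁.Opens := N.support.compl
  have hdW : Dense (((d ≫ T.c₁) ⁻¹ᵁ W : Yf.Opens) : Set Yf) := by
    have h := dense_awayFrom hN.1
    rw [Scheme.IdealSheafData.support_comap, Closeds.coe_preimage, ← Set.preimage_compl] at h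
    exact h
  obtain ⟨y, hyO, hyW⟩ := hdW.inter_open_nonempty O hO hne
  let O' : ((d ≫ T.c₁) ⁻¹ᵁ W).toScheme.Opens := ((d ≫ T.c₁) ⁻¹ᵁ W).ι ⁻¹ᵁ ⟨O, hO⟩
  have himg : IsOpen (((d ≫ T.c₁) ∣_ W ≫ W.ι) '' (O' : Set ((d ≫ T.c₁) ⁻¹ᵁ W).toScheme)) :=
    ((d ≫ T.c₁) ∣_ W ≫ W.ι).isOpenEmbedding.isOpenMap _ O'.2
  obtain ⟨_, ⟨z, hz, rfl⟩, a, ha⟩ := D.dense₁.inter_open_nonempty _ himg ⟨_, ⟨y, hyW⟩, hyO, rfl⟩
  rw [morphismRestrict_ι, Scheme.Hom.comp_apply] at ha
  refine ⟨((d ≫ T.c₁) ⁻¹ᵁ W).ι z, hz, a, eq_of_isBlowUp hN (fun h => ?_) ?_⟩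
  · refine Set.disjoint_left.1 hNd h ⟨U.homOfLE D.le₁ a, ?_⟩
    rw [← Scheme.Hom.comp_apply _ (d ≫ T.c₁), Category.assoc, hj]
    exact (Scheme.Hom.comp_apply _ _ a).symm
  · rw [← Scheme.Hom.comp_apply _ (d ≫ T.c₁), Category.assoc, hj]
    exact ha

end Groth.Agent.RZUnion
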